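import Cfsg.Agent.CoZeroInvol.Diag
import Cfsg.Agent.CoZeroInvol.Data
import Cfsg.Agent.M24Classes.Classes

/-!
The noncentral involutions of the automorphism group of the Leech lattice form three classes: each is
conjugate to the sign change on an octad, on its complement, or on a dodecad.
-/

set_option autoImplicit false
set_option maxRecDepth 20000

namespace CfsgLib.CoZeroInvol

open Cfsg CfsgLib.Mathieu CfsgLib.Leech CfsgLib.CoOneInv CfsgLib.CoOneOut CfsgLib.M24Classes
open scoped symmDiff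

local notation "Supp" => supports (golayCode : Set (GolayPt → ZMod 2))

theorem idTab_rep : Rep enc (1 : Equiv.Perm GolayPt) idTab :=
  rep_of_tableOK id (fun _ => rfl) (by decide +kernel)

/-- One representative: the word conjugates it to a sign change. -/
def repOK (T : ℕ) (r : ℕ × List Mv × ℕ) : Bool :=
  r.2.1.all Mv.ok && (Mv.mono T r.1).ok && (Mv.mono idTab r.2.2).ok &&
    sameOn (r.2.1 ++ [.mono T r.1]) ([.mono idTab r.2.2] ++ r.2.1)

/-- One invariant word: adjusting by a code word gives a representative. -/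
def caseOK (T : ℕ) (R : List (ℕ × List Mv × ℕ)) (e : ℕ × ℕ × ℕ) : Bool :=
  Nat.blt e.2.2 R.length && isCode e.2.1 &&
    Nat.beq (Nat.xor (codeMask e.1) (Nat.xor e.2.1 (push T 24 e.2.1))) (R.getD e.2.2 (0, [], 0)).1

theorem oct_checks : (repsOct.all (repOK tab2Oct) = true) ∧
    (casesOct.all (caseOK tab2Oct repsOct) = true) ∧
    (((List.range 4096).filter fun m => Nat.beq (push tab2Oct 24 (codeMask m)) (codeMask m)) ==
      casesOct.map Prod.fst) = true := by
  refine ⟨?_, ?_, ?_⟩ <;> decide +kernel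

theorem free_checks : (repsFree.all (repOK tab2Free) = true) ∧
    (casesFree.all (caseOK tab2Free repsFree) = true) ∧
    (((List.range 4096).filter fun m => Nat.beq (push tab2Free 24 (codeMask m)) (codeMask m)) ==
      casesFree.map Prod.fst) = true := by
  refine ⟨?_, ?_, ?_⟩ <;> decide +kernel

/-- Conjugate to a sign change. -/
def Diagonal (x : Co0) : Prop := ∃ (c : Finset GolayPt) (hc : c ∈ Supp), IsConj (diag c hc) x

theorem mono_empty_inv_mul {γ : Equiv.Perm GolayPt} (hγ : γ ∈ M24) {τ τ' : Equiv.Perm GolayPt}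
    (hτ : τ ∈ M24) (hτ' : τ' ∈ M24) {c : Finset GolayPt} (hc : c ∈ Supp) (e : γ * τ = τ' * γ)
    (hc' : c.image γ ∈ Supp) :
    IsConj (monoCo0 τ hτ c hc) (monoCo0 τ' hτ' (c.image γ) hc') := by
  refine (isConj_iff (a := monoCo0 τ hτ c hc)).2 ⟨(monoCo0 γ hγ ∅ mem_supports_empty)⁻¹, ?_⟩
  rw [inv_inv, mul_assoc, inv_mul_eq_iff_eq_mul, monoCo0_mul, monoCo0_mul]
  refine monoCo0_congr e ?_
  rw [Finset.image_image]
  simp [symmDiff_comm]

theorem diagonal_of_rep {T : ℕ} {r : ℕ × List Mv × ℕ} (h : repOK T r = true)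
    {τ : Equiv.Perm GolayPt} (hτ : τ ∈ M24) (hr : Rep enc τ T) (hc : setOf24 r.1 ∈ Supp) :
    Diagonal (monoCo0 τ hτ (setOf24 r.1) hc) := by
  simp only [repOK, Bool.and_eq_true] at h
  obtain ⟨⟨⟨hw, hm⟩, hd⟩, hs⟩ := h
  have hz : isCode r.2.2 = true := by simp only [Mv.ok, Bool.and_eq_true] at hd; exact hd.2
  have h1 : [Mv.mono T r.1].all Mv.ok = true := by simp [hm]
  have h2 : [Mv.mono idTab r.2.2].all Mv.ok = true := by simp [hd]
  have e := moveElt_eq (by rw [List.all_append, hw, h1]; rfl) (by rw [List.all_append, h2, hw]; rfl) hs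
  rw [moveElt_append hw h1, moveElt_append h2 hw, moveElt_mono hm hτ hr hc rfl,
    moveElt_mono hd (one_mem _) idTab_rep (setOf24_mem_supports hz) rfl] at e
  exact ⟨_, setOf24_mem_supports hz, isConj_iff.2 ⟨moveElt r.2.1, by
    rw [show diag (setOf24 r.2.2) _ = monoCo0 1 (one_mem _) _ _ from rfl, ← e, mul_inv_cancel_right]⟩⟩

theorem diagonal_of_checks {T : ℕ} {R : List (ℕ × List Mv × ℕ)} {C : List (ℕ × ℕ × ℕ)}
    (hR : R.all (repOK T) = true) (hC : C.all (caseOK T R) = true)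
    (hall : (((List.range 4096).filter fun m => Nat.beq (push T 24 (codeMask m)) (codeMask m)) ==
      C.map Prod.fst) = true)
    {τ : Equiv.Perm GolayPt} (hτ : τ ∈ M24) (hr : Rep enc τ T) (hinv : τ * τ = 1)
    {c : Finset GolayPt} (hc : c ∈ Supp) (himg : c.image τ = c) :
    Diagonal (monoCo0 τ hτ c hc) := by
  obtain ⟨m, hm, em⟩ := exists_codeMask ((mem_supports_iff c).1 hc)
  have hcm : c = setOf24 (codeMask m) := by rw [← em, setOf24_maskOf]
  have hpush : push T 24 (codeMask m) = codeMask m := by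
    refine setOf24_inj ?_ (isCode_lt (isCode_codeMask m)) ?_
    · apply Nat.lt_of_not_le
      intro hle
      obtain ⟨j, hj, hj'⟩ := Nat.exists_ge_and_testBit_of_ge_two_pow hle
      rw [testBit_push] at hj'
      obtain ⟨i, hi, -, e⟩ := hj'
      have := hr (pt i)
      change app T (idx (pt i)) = idx (τ (pt i)) at this
      rw [idx_pt hi, e] at this
      have := idx_lt (τ (pt i))
      omega
    · rw [← image_setOf24 hr, ← hcm, himg]
  have hmem : m ∈ C.map Prod.fst := by
    rw [← beq_iff_eq.1 hall, List.mem_filter]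
    exact ⟨List.mem_range.2 hm, by rw [Nat.beq_eq, hpush]⟩
  obtain ⟨e, he, hem⟩ := List.mem_map.1 hmem
  have hce := List.all_eq_true.1 hC e he
  simp only [caseOK, Bool.and_eq_true, Nat.blt_eq, Nat.beq_eq] at hce
  obtain ⟨⟨hi, hd⟩, hx⟩ := hce
  rw [List.getD_eq_getElem _ _ hi] at hx
  have hrep := List.all_eq_true.1 hR _ (List.getElem_mem hi)
  have hd' : setOf24 e.2.1 ∈ Supp := setOf24_mem_supports hd
  have hinv' : τ⁻¹ = τ := inv_eq_of_mul_eq_one_right hinv
  have eset : setOf24 (R[e.2.2]).1 = c ∆ (setOf24 e.2.1 ∆ (setOf24 e.2.1).image τ) := by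
    rw [← hx, hem]
    change setOf24 (codeMask m ^^^ (e.2.1 ^^^ push T 24 e.2.1)) = _
    rw [setOf24_xor, setOf24_xor, ← image_setOf24 hr, ← hcm]
  obtain ⟨z, hz, hconj⟩ := diagonal_of_rep hrep hτ hr
    (eset ▸ supports_symmDiff hc (supports_symmDiff hd' (setSystemAut_image_mem hτ hd')))
  refine ⟨z, hz, hconj.trans ?_⟩
  refine (isConj_iff (b := monoCo0 τ hτ c hc)).2 ⟨diag _ hd', ?_⟩
  rw [inv_eq_of_mul_eq_one_right (diag_sq hd'), diag, monoCo0_mul, monoCo0_mul]
  refine monoCo0_congr (by rw [mul_one, one_mul]) ?_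
  rw [mul_one, hinv', eset]
  simp only [inv_one, Equiv.Perm.coe_one, Finset.image_id]
  ext p
  simp only [Finset.mem_symmDiff]
  tauto

theorem diagonal_of_mono {τ : Equiv.Perm GolayPt} (hτ : τ ∈ M24) {c : Finset GolayPt} (hc : c ∈ Supp)
    (h : monoCo0 τ hτ c hc * monoCo0 τ hτ c hc = 1) : Diagonal (monoCo0 τ hτ c hc) := by
  rw [monoCo0_mul, ← monoCo0_one_empty mem_supports_empty] at h
  obtain ⟨ht, hs⟩ : τ * τ = 1 ∧ c ∆ c.image ⇑τ⁻¹ = ∅ := by
    have := @monoOf_injective (⟨τ * τ, mul_mem hτ hτ⟩, ⟨_, supports_symmDiff hc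
      (setSystemAut_image_mem (inv_mem hτ : τ⁻¹ ∈ M24) hc)⟩) (⟨1, one_mem _⟩, ⟨∅, mem_supports_empty⟩) h
    simp only [Prod.mk.injEq, Subtype.mk.injEq] at this
    exact this
  have hinv : τ⁻¹ = τ := inv_eq_of_mul_eq_one_right ht
  rw [hinv] at hs
  have himg : c.image τ = c := (symmDiff_eq_bot.1 hs).symm
  by_cases h1 : τ = 1
  · exact ⟨c, hc, by rw [diag]; exact (monoCo0_congr (hc' := hc) h1 rfl) ▸ IsConj.refl _⟩
  have ho : orderOf τ = 2 := orderOf_eq_prime (by rw [pow_two, ht]) h1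
  have red : ∀ {σ : Equiv.Perm GolayPt} (hσ : σ ∈ M24), (∃ g ∈ M24, g * σ * g⁻¹ = τ) →
      (∀ (d : Finset GolayPt) (hd : d ∈ Supp), d.image σ = d → Diagonal (monoCo0 σ hσ d hd)) →
      Diagonal (monoCo0 τ hτ c hc) := by
    rintro σ hσ ⟨g, hg, e⟩ H
    have hd : c.image ⇑g⁻¹ ∈ Supp := setSystemAut_image_mem (inv_mem hg : g⁻¹ ∈ M24) hc
    have hcomm : g⁻¹ * τ = σ * g⁻¹ := by rw [← e]; group
    obtain ⟨z, hz, hzc⟩ := H _ hd (by
      conv_rhs => rw [← himg, Finset.image_image]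
      rw [Finset.image_image, ← Equiv.Perm.coe_mul, ← Equiv.Perm.coe_mul, hcomm])
    exact ⟨z, hz, hzc.trans (mono_empty_inv_mul (inv_mem hg) hτ hσ hc hcomm hd).symm⟩
  rcases involution_classes hτ ho with h' | h'
  · exact red inv2Free_mem h' fun d hd hi => diagonal_of_checks free_checks.1 free_checks.2.1
      free_checks.2.2 _ inv2Free_rep (by rw [← pow_two, ← orderOf_reps.1]; exact pow_orderOf_eq_one _) hd hi
  · exact red inv2Oct_mem h' fun d hd hi => diagonal_of_checks oct_checks.1 oct_checks.2.1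
      oct_checks.2.2 _ inv2Oct_rep (by rw [← pow_two, ← orderOf_reps.2.1]; exact pow_orderOf_eq_one _) hd hi

theorem card_monoGroup : Nat.card monoGroup = 4096 * 244823040 := by
  rw [← card_crossStab]
  exact Nat.card_congr (Equiv.subtypeEquivRight fun g => mem_monoGroup_iff)

/-- A 2-element is conjugate into the monomial group. -/
theorem exists_conj_mem_monoGroup {x : Co0} (hx : x * x = 1) : ∃ g : Co0, g * x * g⁻¹ ∈ monoGroup := by
  haveI := co0_finite
  haveI : Fact (Nat.Prime 2) := ⟨Nat.prime_two⟩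
  obtain ⟨S⟩ := (inferInstance : Nonempty (Sylow 2 monoGroup))
  have h22 : (4096 * 244823040 : ℕ).factorization 2 = 22 ∧
      (8315553613086720000 : ℕ).factorization 2 = 22 := by
    constructor
    · rw [show (4096 * 244823040 : ℕ) = 2 ^ 22 * 239085 from by norm_num,
        Nat.factorization_mul (by norm_num) (by norm_num), Nat.Prime.factorization_pow Nat.prime_two]
      simp [Nat.factorization_eq_zero_of_not_dvd (show ¬ 2 ∣ 239085 by norm_num)]
    · rw [show (8315553613086720000 : ℕ) = 2 ^ 22 * 1982582476875 from by norm_num,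
        Nat.factorization_mul (by norm_num) (by norm_num), Nat.Prime.factorization_pow Nat.prime_two]
      simp [Nat.factorization_eq_zero_of_not_dvd (show ¬ 2 ∣ 1982582476875 by norm_num)]
  let P : Sylow 2 Co0 := Sylow.ofCard ((S : Subgroup monoGroup).map monoGroup.subtype) (by
    rw [Subgroup.card_map_of_injective monoGroup.subtype_injective, S.card_eq_multiplicity,
      card_monoGroup, card_Co0, h22.1, h22.2])
  have hp : IsPGroup 2 (Subgroup.zpowers x) := by
    refine IsPGroup.iff_orderOf.2 fun y => ?_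
    have hd : orderOf y ∣ 2 := by
      refine dvd_trans ?_ (orderOf_dvd_of_pow_eq_one (show x ^ 2 = 1 by rw [pow_two, hx]))
      rw [← Nat.card_zpowers x]
      exact orderOf_dvd_natCard y
    rcases (Nat.dvd_prime Nat.prime_two).1 hd with h | h
    · exact ⟨0, by rw [h, pow_zero]⟩
    · exact ⟨1, by rw [h, pow_one]⟩
  obtain ⟨Q, hQ⟩ := hp.exists_le_sylow
  obtain ⟨g, hg⟩ := MulAction.exists_smul_eq Co0 Q P
  refine ⟨g, ?_⟩
  have : g * x * g⁻¹ ∈ (P : Subgroup Co0) := by
    rw [← hg]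
    exact ⟨x, hQ (Subgroup.mem_zpowers x), rfl⟩
  obtain ⟨y, -, e⟩ := this
  exact e ▸ y.2

/-- The involutions outside the centre. -/
theorem involution_cases {x : Co0} (hx : x * x = 1) : x ∈ Subgroup.center Co0 ∨ Cls x := by
  obtain ⟨g, hg⟩ := exists_conj_mem_monoGroup hx
  have hsq : g * x * g⁻¹ * (g * x * g⁻¹) = 1 := by
    rw [show g * x * g⁻¹ * (g * x * g⁻¹) = g * (x * x) * g⁻¹ by group, hx, mul_one, mul_inv_cancel]
  obtain ⟨τ, hτ, c, hc, e⟩ := eq_monoCo0 (mem_monoGroup_iff.1 hg)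
  rw [e] at hsq
  obtain ⟨z, hz, hzc⟩ := diagonal_of_mono hτ hc hsq
  have hzx : IsConj (diag z hz) x := by
    rw [← e] at hzc
    exact hzc.trans (isConj_iff.2 ⟨g⁻¹, by group⟩)
  rcases diag_cases hz with h | h
  · left
    obtain ⟨a, ha⟩ := isConj_iff.1 hzx
    rw [← ha, Subgroup.mem_center_iff.1 h a, mul_inv_cancel_right]
    exact h
  · exact Or.inr (h.imp (·.trans hzx) (Or.imp (·.trans hzx) (·.trans hzx)))

end CfsgLib.CoZeroInvol
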