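import Cfsg.Agent.CoOneInv.Centralizer
import Cfsg.Agent.CoOneOut.Moves
import Cfsg.Agent.Mathieu.General
import Cfsg.Agent.M24Classes.Classes

/-!
Sign changes in the automorphism group of the Leech lattice: up to conjugation an octad, its complement,
or a dodecad.
-/

set_option autoImplicit false

namespace CfsgLib.CoZeroInvol

open Cfsg CfsgLib.Mathieu CfsgLib.Leech CfsgLib.CoOneInv
open scoped symmDiff

local notation "Supp" => supports (golayCode : Set (GolayPt → ZMod 2))

/-- The sign change on a code word. -/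
def diag (c : Finset GolayPt) (hc : c ∈ Supp) : Co0 := monoCo0 1 (one_mem _) c hc

theorem mem_supports_empty : (∅ : Finset GolayPt) ∈ Supp := by
  rw [← setOf24_zero]; exact setOf24_mem_supports isCode_zero

theorem monoCo0_one_empty (h : (∅ : Finset GolayPt) ∈ Supp) : monoCo0 1 (one_mem _) ∅ h = 1 :=
  co0_ext fun v => Subtype.ext (by
    rw [monoCo0_smul, one_smul]; funext p; simp [monoFun])

theorem diag_mul {c d : Finset GolayPt} (hc : c ∈ Supp) (hd : d ∈ Supp) :
    diag c hc * diag d hd = diag (c ∆ d) (supports_symmDiff hc hd) := by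
  rw [diag, diag, diag, monoCo0_mul]
  exact monoCo0_congr (one_mul 1) (by simp)

theorem diag_congr {c d : Finset GolayPt} {hc : c ∈ Supp} {hd : d ∈ Supp} (e : c = d) :
    diag c hc = diag d hd := monoCo0_congr rfl e

theorem diag_sq {c : Finset GolayPt} (hc : c ∈ Supp) : diag c hc * diag c hc = 1 := by
  rw [diag_mul, ← monoCo0_one_empty mem_supports_empty]
  exact monoCo0_congr rfl (symmDiff_self c)

theorem negCo0_eq_diag : negCo0 = diag Finset.univ (by
    rw [← setOf24_full]; exact setOf24_mem_supports isCode_full) := rfl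

theorem negCo0_mul_diag {c : Finset GolayPt} (hc : c ∈ Supp) :
    negCo0 * diag c hc = diag cᶜ (supports_compl hc) := by
  rw [negCo0_eq_diag, diag_mul]
  exact diag_congr (by ext p; simp [Finset.mem_symmDiff])

theorem epsCo0_eq_diag : epsCo0 = diag octO octO_supports := rfl

theorem wElt_eq_diag : wElt = diag octOᶜ (supports_compl octO_supports) := by
  rw [wElt_eq_neg_mul, epsCo0_eq_diag, negCo0_mul_diag]

theorem dodMask_code : isCode CoOneOut.dodMask = true ∧ wt CoOneOut.dodMask = 12 := by decide +kernel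

/-- The sign change on the dodecad fixed by doubling. -/
noncomputable def dodCo0 : Co0 := diag (setOf24 CoOneOut.dodMask) (setOf24_mem_supports dodMask_code.1)

/-- A member of `M24` carrying one word to another conjugates the sign changes. -/
theorem isConj_diag_image {γ : Equiv.Perm GolayPt} (hγ : γ ∈ M24) {c d : Finset GolayPt}
    (hc : c ∈ Supp) (hd : d ∈ Supp) (e : c.image γ = d) : IsConj (diag c hc) (diag d hd) := by
  refine (isConj_iff (a := diag c hc) (b := diag d hd)).2 ⟨(monoCo0 γ hγ ∅ mem_supports_empty)⁻¹, ?_⟩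
  rw [inv_inv, mul_assoc, inv_mul_eq_iff_eq_mul, diag, diag, monoCo0_mul, monoCo0_mul]
  refine monoCo0_congr (by rw [mul_one, one_mul]) ?_
  rw [← e, Finset.image_image]
  simp [symmDiff_comm]

/-- One of the three classes of noncentral involutions. -/
def Cls (x : Co0) : Prop := IsConj epsCo0 x ∨ IsConj wElt x ∨ IsConj dodCo0 x

theorem octO_octad : octO ∈ octads := setOf24_mem_wordsOfWeight (by decide +kernel) (by decide +kernel)

theorem isConj_eps_diag {c : Finset GolayPt} (hc : c ∈ Supp) (h : c.card = 8) :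
    IsConj epsCo0 (diag c hc) := by
  obtain ⟨γ, hγ, e⟩ := M24_octad_transitive octO_octad (show c ∈ octads from ⟨hc, h⟩)
  exact isConj_diag_image hγ _ hc e

theorem isConj_wElt_diag {c : Finset GolayPt} (hc : c ∈ Supp) (h : c.card = 16) :
    IsConj wElt (diag c hc) := by
  have h8 : cᶜ.card = 8 := by
    rw [Finset.card_compl, h, M24Classes.card_golayPt]
  obtain ⟨a, ha⟩ := isConj_iff.1 (isConj_eps_diag (supports_compl hc) h8)
  refine isConj_iff.2 ⟨a, ?_⟩
  rw [wElt_eq_neg_mul, ← mul_assoc a, Subgroup.mem_center_iff.1 negCo0_mem_center a, mul_assoc,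
    mul_assoc, ← mul_assoc a, ha, negCo0_mul_diag]
  exact diag_congr (compl_compl c)

theorem isConj_dod_diag {c : Finset GolayPt} (hc : c ∈ Supp) (h : c.card = 12) :
    IsConj dodCo0 (diag c hc) := by
  obtain ⟨γ, hγ, e⟩ := M24_dodecad_transitive'
    (setOf24_mem_wordsOfWeight dodMask_code.1 dodMask_code.2) (show c ∈ dodecads from ⟨hc, h⟩)
  exact isConj_diag_image hγ _ hc e

theorem diag_cases {c : Finset GolayPt} (hc : c ∈ Supp) :
    diag c hc ∈ Subgroup.center Co0 ∨ Cls (diag c hc) := by
  rcases supports_card hc with h | h | h | h | h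
  · left
    rw [diag_congr (hd := mem_supports_empty) (Finset.card_eq_zero.1 h), diag, monoCo0_one_empty]
    exact one_mem _
  · exact Or.inr (Or.inl (isConj_eps_diag hc h))
  · exact Or.inr (Or.inr (Or.inr (isConj_dod_diag hc h)))
  · exact Or.inr (Or.inr (Or.inl (isConj_wElt_diag hc h)))
  · left
    rw [diag_congr (c := c) (hd := supports_compl mem_supports_empty)
      ((Finset.eq_univ_of_card c (by rw [h, M24Classes.card_golayPt])).trans Finset.compl_empty.symm)]
    rw [show diag (∅ᶜ : Finset GolayPt) _ = negCo0 from by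
      rw [negCo0_eq_diag]; exact diag_congr Finset.compl_empty]
    exact negCo0_mem_center

theorem negCo0_mul_cls {x : Co0} :
    (IsConj epsCo0 x → IsConj wElt (negCo0 * x)) ∧ (IsConj wElt x → IsConj epsCo0 (negCo0 * x)) ∧
      (IsConj dodCo0 x → IsConj dodCo0 (negCo0 * x)) := by
  have key : ∀ {u x : Co0}, IsConj u x → IsConj (negCo0 * u) (negCo0 * x) := by
    intro u x h
    obtain ⟨a, ha⟩ := isConj_iff.1 h
    refine isConj_iff.2 ⟨a, ?_⟩
    rw [← ha, ← mul_assoc a negCo0, Subgroup.mem_center_iff.1 negCo0_mem_center a]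
    simp only [mul_assoc]
  refine ⟨fun h => wElt_eq_neg_mul ▸ key h, fun h => ?_, fun h => ?_⟩
  · have := key h
    rwa [wElt_eq_neg_mul, ← mul_assoc, negCo0_sq, one_mul] at this
  · refine IsConj.trans ?_ (key h)
    rw [dodCo0, negCo0_mul_diag]
    refine isConj_dod_diag _ ?_
    rw [Finset.card_compl, card_setOf24, dodMask_code.2, M24Classes.card_golayPt]

theorem cls_neg {x : Co0} (h : Cls x) : Cls (negCo0 * x) := by
  obtain ⟨h1, h2, h3⟩ := negCo0_mul_cls (x := x)
  rcases h with h | h | h
  exacts [Or.inr (Or.inl (h1 h)), Or.inl (h2 h), Or.inr (Or.inr (h3 h))]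

end CfsgLib.CoZeroInvol
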